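import Groth.Prelude.Def_PicLoc

/-!
# Homomorphisms of group schemes injective on geometric points

`k` a field, `u : Q ⟶ P` a homomorphism of `k`-group schemes locally of finite type which is injective on the points
over one algebraically closed extension `Ω` of `k`.  Then `u` is injective on the points over every field extension
of `k` (`K944.InjGrp.injective_points_of_kernel`): the kernel of `u` has one point, which is rational.
-/

set_option autoImplicit false
universe u
open CategoryTheory CategoryTheory.Limits MonoidalCategory CartesianMonoidalCategory MonObj GrpObj AlgebraicGeometry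
open Opposite

namespace K944.InjGrp

/-- A nonempty scheme locally of finite type over a field has a point over every algebraically closed extension. -/
theorem exists_pt {k : Type u} [Field k] {X : Scheme.{u}} (g : X ⟶ Spec (CommRingCat.of k)) [LocallyOfFiniteType g]
    [Nonempty X] (Ω : Type u) [Field Ω] [Algebra k Ω] [IsAlgClosed Ω] :
    ∃ x : Spec (CommRingCat.of Ω) ⟶ X, x ≫ g = Spec.map (CommRingCat.ofHom (algebraMap k Ω)) := by
  obtain ⟨p⟩ := ‹Nonempty X›
  obtain ⟨U, hU, hpU, -⟩ := exists_isAffineOpen_mem_and_subset (X := X) (x := p) (U := ⊤) trivial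
  let C := Γ(X, U)
  let q : Spec C ⟶ Spec (CommRingCat.of k) := hU.fromSpec ≫ g
  let φ : CommRingCat.of k ⟶ C := Spec.preimage q
  have hφ : Spec.map φ = q := Spec.map_preimage q
  let _ : Algebra k C := φ.hom.toAlgebra
  have hft : Algebra.FiniteType k C := by
    have h1 : LocallyOfFiniteType (Spec.map φ) := by rw [hφ]; infer_instance
    exact (HasRingHomProperty.Spec_iff (P := @LocallyOfFiniteType)).1 h1
  have hnt : Nontrivial C := by
    have h1 : Nonempty (Spec C) := by
      have h2 : p ∈ Set.range hU.fromSpec := by rw [hU.range_fromSpec]; exact hpU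
      obtain ⟨c, -⟩ := h2
      exact ⟨c⟩
    exact PrimeSpectrum.nonempty_iff_nontrivial.1 h1
  obtain ⟨m, hm⟩ := Ideal.exists_maximal C
  let _ : Field (C ⧸ m) := Ideal.Quotient.field m
  have hfin : Module.Finite k (C ⧸ m) := finite_of_finite_type_of_isJacobsonRing k (C ⧸ m)
  let ψ : (C ⧸ m) →ₐ[k] Ω := IsAlgClosed.lift
  let χ : C →ₐ[k] Ω := ψ.comp (Ideal.Quotient.mkₐ k m)
  refine ⟨Spec.map (CommRingCat.ofHom (χ : C →+* Ω)) ≫ hU.fromSpec, ?_⟩
  rw [Category.assoc]
  change Spec.map (CommRingCat.ofHom (χ : C →+* Ω)) ≫ q = _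
  rw [← hφ, ← Spec.map_comp]
  congr 1
  ext a
  exact χ.commutes a

/-- Two points with values in fields, one of them rational. -/
theorem eq_of_rational {k : Type u} [Field k] {X : Scheme.{u}} (g : X ⟶ Spec (CommRingCat.of k))
    (e : Spec (CommRingCat.of k) ⟶ X) (he : e ≫ g = 𝟙 _) {K : Type u} [Field K] (f : Spec (CommRingCat.of K) ⟶ X)
    (h : f (IsLocalRing.closedPoint K) = e (IsLocalRing.closedPoint k)) : f = (f ≫ g) ≫ e := by
  obtain ⟨⟨x, φ⟩, hφ⟩ := (Scheme.SpecToEquivOfField K X).symm.surjective f
  obtain ⟨⟨y, ε⟩, hε⟩ := (Scheme.SpecToEquivOfField k X).symm.surjective e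
  have hφ' : Spec.map φ ≫ X.fromSpecResidueField x = f := hφ
  have hε' : Spec.map ε ≫ X.fromSpecResidueField y = e := hε
  have hx : f (IsLocalRing.closedPoint K) = x := by
    rw [← hφ']; simp
  have hy : e (IsLocalRing.closedPoint k) = y := by
    rw [← hε']; simp
  obtain rfl : x = y := by rw [← hx, ← hy, h]
  let io : CommRingCat.of k ⟶ X.residueField x := Spec.preimage (X.fromSpecResidueField x ≫ g)
  have hio : Spec.map io = X.fromSpecResidueField x ≫ g := Spec.map_preimage _
  have h1 : io ≫ ε = 𝟙 _ := by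
    apply Spec.map_injective
    rw [Spec.map_comp, hio, ← Category.assoc, hε', he, Spec.map_id]
  have h2 : ε ≫ io = 𝟙 _ := by
    have hinj : Function.Injective ε.hom := ε.hom.injective
    ext a
    apply hinj
    have h3 := congr($(h1).hom (ε.hom a))
    exact h3
  calc f = Spec.map (ε ≫ io ≫ φ) ≫ X.fromSpecResidueField x := by
        rw [← Category.assoc, h2, Category.id_comp, hφ']
    _ = (f ≫ g) ≫ e := by
        rw [Spec.map_comp, Spec.map_comp, hio]
        simp only [Category.assoc, hε']
        rw [reassoc_of% hφ']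

/-- A scheme locally of finite type over a field with a rational point and at most one point over an algebraically
closed extension has at most one point over every field. -/
theorem eq_of_one_point {k : Type u} [Field k] {X : Scheme.{u}} (g : X ⟶ Spec (CommRingCat.of k))
    [LocallyOfFiniteType g] (e : Spec (CommRingCat.of k) ⟶ X) (he : e ≫ g = 𝟙 _) (Ω : Type u) [Field Ω] [Algebra k Ω]
    [IsAlgClosed Ω]
    (hΩ : ∀ x : Spec (CommRingCat.of Ω) ⟶ X, x ≫ g = Spec.map (CommRingCat.ofHom (algebraMap k Ω)) →
      x = Spec.map (CommRingCat.ofHom (algebraMap k Ω)) ≫ e)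
    {K : Type u} [Field K] (f : Spec (CommRingCat.of K) ⟶ X) : f = (f ≫ g) ≫ e := by
  have hJ : JacobsonSpace X := LocallyOfFiniteType.jacobsonSpace g
  have hlft : LocallyOfFiniteType e := by
    have h1 : LocallyOfFiniteType (e ≫ g) := by rw [he]; infer_instance
    exact locallyOfFiniteType_of_comp e g
  have hcl : IsClosed ({e (IsLocalRing.closedPoint k)} : Set X) := by
    have h2 := e.closePoints_subset_preimage_closedPoints
      (show IsLocalRing.closedPoint k ∈ closedPoints (Spec (CommRingCat.of k)) from ?_)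
    · exact h2
    · exact isClosed_singleton
  refine eq_of_rational g e he f ?_
  by_contra hne
  let W : X.Opens := ⟨{e (IsLocalRing.closedPoint k)}ᶜ, hcl.isOpen_compl⟩
  have hW : Nonempty W := ⟨⟨f (IsLocalRing.closedPoint K), hne⟩⟩
  have hW' : Nonempty W.toScheme := hW
  obtain ⟨x, hx⟩ := exists_pt (X := W.toScheme) (W.ι ≫ g) Ω
  have h1 := hΩ (x ≫ W.ι) (by rw [Category.assoc, hx])
  have h2 : (x ≫ W.ι) (IsLocalRing.closedPoint Ω) ∈ W := by
    rw [Scheme.Hom.comp_apply]
    exact (x (IsLocalRing.closedPoint Ω)).2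
  rw [h1, Scheme.Hom.comp_apply] at h2
  apply h2
  change e _ = e _
  congr 1
  exact Subsingleton.elim _ _

/-- InjGrp: a homomorphism of group schemes locally of finite type over a field which is injective on the points over
one algebraically closed field is injective on the points over every field. -/
theorem injective_points_of_kernel (k : Type u) [Field k] (Q P : Over (Spec (CommRingCat.of k))) [GrpObj Q] [GrpObj P]
    (hQ : LocallyOfFiniteType Q.hom) (hP : LocallyOfFiniteType P.hom) (u : Q ⟶ P) [IsMonHom u]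
    (Ω : Type u) [Field Ω] [Algebra k Ω] [IsAlgClosed Ω]
    (hu : ∀ b b' : PicLoc.spc k Ω ⟶ Q, b ≫ u = b' ≫ u → b = b')
    (K : Type u) [Field K] [Algebra k K] (b b' : PicLoc.spc k K ⟶ Q) (h : b ≫ u = b' ≫ u) : b = b' := by
  have hsq := (IsPullback.of_hasPullback u η[P]).map (Over.forget _)
  have hη : LocallyOfFiniteType (η[P] : 𝟙_ _ ⟶ P).left := by
    have h1 : LocallyOfFiniteType ((η[P] : 𝟙_ _ ⟶ P).left ≫ P.hom) := by
      rw [Over.w]
      exact inferInstanceAs (LocallyOfFiniteType (𝟙 _))
    exact locallyOfFiniteType_of_comp _ P.hom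
  have hf : LocallyOfFiniteType (pullback.fst u η[P]).left := MorphismProperty.of_isPullback hsq.flip hη
  have hN : LocallyOfFiniteType (pullback u η[P]).hom := by
    rw [← Over.w (pullback.fst u η[P])]
    infer_instance
  let e : 𝟙_ (Over (Spec (CommRingCat.of k))) ⟶ pullback u η[P] :=
    pullback.lift η[Q] (𝟙 _) (by rw [IsMonHom.one_hom, Category.id_comp])
  have key : ∀ (T : Over (Spec (CommRingCat.of k))) (y : T ⟶ pullback u η[P]),
      y ≫ pullback.fst u η[P] = 1 → y = toUnit T ≫ e := by
    intro T y hy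
    apply pullback.hom_ext
    · rw [hy, Category.assoc, pullback.lift_fst]
      rfl
    · exact toUnit_unique _ _
  have hfst : ∀ (T : Over (Spec (CommRingCat.of k))) (y : T ⟶ pullback u η[P]),
      (y ≫ pullback.fst u η[P]) ≫ u = (1 : T ⟶ Q) ≫ u := by
    intro T y
    rw [Category.assoc, pullback.condition, MonObj.one_comp, ← Category.assoc,
      toUnit_unique (y ≫ pullback.snd u η[P]) (toUnit T)]
    rfl
  have hc : (b * b'⁻¹) ≫ u = 1 := by
    rw [MonObj.mul_comp, GrpObj.inv_comp, h, mul_inv_cancel]
  let c' : PicLoc.spc k K ⟶ pullback u η[P] := pullback.lift (b * b'⁻¹) (toUnit _) (by rw [hc]; rfl)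
  have hc' : c' ≫ pullback.fst u η[P] = b * b'⁻¹ := pullback.lift_fst _ _ _
  have he : e.left ≫ (pullback u η[P]).hom = 𝟙 _ := Over.w e
  have h1 := eq_of_one_point (pullback u η[P]).hom e.left he Ω (fun x hx => by
    let x' : PicLoc.spc k Ω ⟶ pullback u η[P] := Over.homMk x hx
    have h2 : x' = toUnit _ ≫ e := key _ x' (hu _ _ (hfst _ x'))
    exact congr($(h2).left)) c'.left
  have h2 : c' = toUnit _ ≫ e := by
    apply Over.OverMorphism.ext
    refine h1.trans ?_
    exact congr($(Over.w c') ≫ e.left)
  have h3 : b * b'⁻¹ = 1 := by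
    rw [← hc', h2, Category.assoc, pullback.lift_fst]
    rfl
  rwa [mul_inv_eq_one] at h3

end K944.InjGrp
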